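import Cfsg.Agent.CpAutTh.Final
import Cfsg.Agent.H95.Szep.Basic
import Cfsg.Agent.H149.Sp.Th
import Mathlib

/-!
# Products of two centralizers in the Thompson group (helper525, S2273)

* `two_bound` : in `Th` the order of the centralizer of an element of odd prime order is not divisible by 128;
* `odd_case` : if `a` is a non-identity element of prime order and `Th = C(a) C(t)` with an involution `t` then `C(a)` has
  odd order divisible by `19 * 31`: an element of order 19 commutes with an element of order 31, a contradiction.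
-/

set_option autoImplicit false
set_option maxRecDepth 100000

open Subgroup Cfsg

namespace Cfsg.Agent.H525.SzepTh

open Cfsg.Agent.Th.Base Cfsg.Agent.Th.Word Cfsg.Agent.Th.RelWords Cfsg.Agent.Th.PermTab
  Cfsg.Agent.Th.KOracle Cfsg.Agent.Th.KPerm Cfsg.Agent.Th.NineAct Cfsg.Agent.Th.CStruct
open Cfsg.Agent.KFacts.Th.Mask Cfsg.Agent.KFacts.Th.Struct
open Cfsg.Agent.CpAutTh.Data Cfsg.Agent.CpAutTh.Local Cfsg.Agent.CpAutTh.Mid
  Cfsg.Agent.CpAutTh.Seven Cfsg.Agent.CpAutTh.ThreePerm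
open Cfsg.Agent.H95.Szep Cfsg.Agent.H105.Sz

universe u

section

variable {G : Type u} [Group G] {γ : ℕ → G} (h : Ctx γ)
include h

/-- the elements of `Q0` commuting with a word -/
theorem card_fix_le {X : List ℕ} {T : Tab} (hc : chk X T = true) {L : List ℕ}
    (hL : allB 512 (fun m => or (par m) (or (Bool.not (Nat.beq (Lf (Mt T) 9 m) m)) (L.any fun k => Nat.beq k m))) = true)
    : Nat.card {q : G // q ∈ Q0 γ ∧ q * ev γ X = ev γ X * q} ≤ 2 * L.length := by
  classical
  have hne : Nonempty {q : G // q ∈ Q0 γ ∧ q * ev γ X = ev γ X * q} :=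
    ⟨⟨1, one_mem _, by rw [one_mul, mul_one]⟩⟩
  let m : {q : G // q ∈ Q0 γ ∧ q * ev γ X = ev γ X * q} → ↥L.toFinset := fun q =>
    ⟨(comm_mask h hc hL q.2.1 q.2.2).choose, List.mem_toFinset.2 (comm_mask h hc hL q.2.1 q.2.2).choose_spec.1⟩
  have hm : ∀ q : {q : G // q ∈ Q0 γ ∧ q * ev γ X = ev γ X * q}, HM (γ 1) (cc γ) (q : G) (m q : ℕ) := fun q =>
    (comm_mask h hc hL q.2.1 q.2.2).choose_spec.2
  -- representatives
  let g : {q : G // q ∈ Q0 γ ∧ q * ev γ X = ev γ X * q} → ↥L.toFinset × Prop := fun q =>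
    (m q, (Function.invFun m (m q) = q))
  have hg : Function.Injective g := by
    intro q r hqr
    have h1 : m q = m r := congrArg Prod.fst hqr
    have h2 : (Function.invFun m (m q) = q) = (Function.invFun m (m r) = r) := congrArg Prod.snd hqr
    have h3 : m (Function.invFun m (m q)) = m q := Function.invFun_eq ⟨q, rfl⟩
    set t := Function.invFun m (m q) with ht
    rw [← h1, ← ht] at h2
    by_cases h4 : t = q
    · rw [← h4]
      exact h2.mp h4
    · have h5 : ¬ t = r := fun h5 => h4 (h2.mpr h5)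
      have hmt := hm t
      rw [h3] at hmt
      have hmr := hm r
      rw [← h1] at hmr
      rcases eq_of_mask h.data h.cardQ t.2.1 q.2.1 hmt (hm q) with h6 | h6
      · exact absurd (Subtype.ext h6.symm) h4
      rcases eq_of_mask h.data h.cardQ t.2.1 r.2.1 hmt hmr with h7 | h7
      · exact absurd (Subtype.ext h7.symm) h5
      exact Subtype.ext (h6.trans h7.symm)
  have h1 := Nat.card_le_card_of_injective g hg
  rw [Nat.card_prod, Nat.card_eq_fintype_card (α := ↥L.toFinset), Fintype.card_coe,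
    Nat.card_eq_fintype_card (α := Prop), Fintype.card_prop] at h1
  calc _ ≤ L.toFinset.card * 2 := h1
    _ ≤ L.length * 2 := Nat.mul_le_mul_right _ (List.toFinset_card_le L)
    _ = 2 * L.length := mul_comm _ _

variable {f : sub γ isC →* alternatingGroup (Fin 9)} (F : Epi γ f)
include F

/-- 2-subgroups centralizing `γ 1` and a word -/
theorem card_le {X : List ℕ} (hX : ∀ x ∈ X, isC x = true) {T : Tab} (hc : chk X T = true) {L : List ℕ}
    (hL : allB 512 (fun m => or (par m) (or (Bool.not (Nat.beq (Lf (Mt T) 9 m) m)) (L.any fun k => Nat.beq k m))) = true)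
    {c N : ℕ} {d : Equiv.Perm (Fin 9)} (hd : Equiv.Perm.sign d = -1) (hdX : d * pm9 X = pm9 X * d)
    (hN : Nat.card ↥(centralizer ({pm9 X} : Set (Equiv.Perm (Fin 9)))) = N) (hcN : ¬ 2 ^ (c + 2) ∣ N)
    {R : Subgroup G} (hR : IsPGroup 2 R) (ha : ∀ y ∈ R, y * γ 1 = γ 1 * y) (hx : ∀ y ∈ R, y * ev γ X = ev γ X * y) :
    Nat.card R ≤ 2 ^ c * (2 * L.length) := by
  have hfin := h.fin
  let xe : sub γ isC := ⟨ev γ X, ev_mem_sub hX⟩
  have hfx : ((f xe : alternatingGroup (Fin 9)) : Equiv.Perm (Fin 9)) = pm9 X := F.word X hX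
  let ι : ↥R →* sub γ isC :=
    { toFun := fun y => ⟨(y : G), h.mem_C.2 (ha y y.2)⟩
      map_one' := rfl
      map_mul' := fun _ _ => rfl }
  let φ : ↥R →* alternatingGroup (Fin 9) := f.comp ι
  have h1 := card_mul_index φ.ker
  rw [index_ker] at h1
  have h2 : Nat.card φ.ker ≤ 2 * L.length := by
    refine le_trans ?_ (card_fix_le h hc hL)
    have hfi : Finite {q : G // q ∈ Q0 γ ∧ q * ev γ X = ev γ X * q} := inferInstance
    refine Nat.card_le_card_of_injective (fun y => ⟨((y : ↥R) : G), ?_, hx _ y.1.2⟩) ?_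
    · exact (mem_ker F (x := ι y)).1 (MonoidHom.mem_ker.2 (MonoidHom.mem_ker.1 y.2))
    · intro y z hyz
      exact Subtype.ext (Subtype.ext (congrArg (fun w : {q : G // q ∈ Q0 γ ∧ q * ev γ X = ev γ X * q} => (w : G)) hyz))
  have h3 : φ.range ≤ centralizer ({f xe} : Set (alternatingGroup (Fin 9))) := by
    rintro _ ⟨y, rfl⟩
    rw [mem_centralizer_singleton_iff]
    have h4 : ι y * xe = xe * ι y := Subtype.ext (hx y y.2)
    have h5 := congrArg f h4
    rw [map_mul, map_mul] at h5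
    exact h5
  have h4 := card_dvd_of_le h3
  have h5 := card_cent_alt (f xe) d hd (by rw [hfx]; exact hdX)
  rw [hfx, hN] at h5
  have hRf : Finite R := inferInstance
  have h6 : IsPGroup 2 φ.range := by
    rw [MonoidHom.range_eq_map]
    exact (hR.of_surjective (topEquiv (G := ↥R)).symm.toMonoidHom (topEquiv (G := ↥R)).symm.surjective).map φ
  obtain ⟨i, hi⟩ := IsPGroup.iff_card.1 h6
  have h7 : Nat.card φ.range ≤ 2 ^ c := by
    rw [hi]
    apply Nat.pow_le_pow_right (by norm_num)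
    by_contra hcon
    push Not at hcon
    apply hcN
    rw [← h5, pow_succ, mul_comm]
    apply Nat.mul_dvd_mul_left
    exact (pow_dvd_pow 2 hcon).trans (hi ▸ h4)
  rw [← h1, mul_comm]
  exact Nat.mul_le_mul h7 h2

theorem card_le_three {R : Subgroup G} (hR : IsPGroup 2 R) (ha : ∀ y ∈ R, y * γ 1 = γ 1 * y)
    (hx : ∀ y ∈ R, y * ev γ X3 = ev γ X3 * y) : Nat.card R ≤ 64 := by
  refine (card_le h F c3 chk3 fix3 (c := 3) s01 m3 (N := 2160) ?_ (by norm_num) hR ha hx).trans (by decide)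
  rw [Equiv.Perm.nat_card_centralizer, t3]
  decide

theorem card_le_three_three {R : Subgroup G} (hR : IsPGroup 2 R) (ha : ∀ y ∈ R, y * γ 1 = γ 1 * y)
    (hx : ∀ y ∈ R, y * ev γ X33 = ev γ X33 * y) : Nat.card R ≤ 64 := by
  refine (card_le h F c33 chk33 fix33 (c := 1) s01 m33 (N := 108) ?_ (by norm_num) hR ha hx).trans (by decide)
  rw [Equiv.Perm.nat_card_centralizer, t33]
  decide

theorem card_le_triple {R : Subgroup G} (hR : IsPGroup 2 R) (ha : ∀ y ∈ R, y * γ 1 = γ 1 * y)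
    (hx : ∀ y ∈ R, y * ev γ X333 = ev γ X333 * y) : Nat.card R ≤ 64 := by
  refine (card_le h F c333 chk333 fix333 (c := 0) sccc m333 (N := 162) ?_ (by norm_num) hR ha hx).trans (by decide)
  rw [Equiv.Perm.nat_card_centralizer, t333]
  decide

theorem card_le_five {R : Subgroup G} (hR : IsPGroup 2 R) (ha : ∀ y ∈ R, y * γ 1 = γ 1 * y)
    (hx : ∀ y ∈ R, y * ev γ X5 = ev γ X5 * y) : Nat.card R ≤ 64 := by
  refine (card_le h F c5 chk5 fix5 (c := 2) s01 m5 (N := 120) ?_ (by norm_num) hR ha hx).trans (by decide)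
  rw [Equiv.Perm.nat_card_centralizer, t5]
  decide

theorem card_le_seven {R : Subgroup G} (hR : IsPGroup 2 R) (ha : ∀ y ∈ R, y * γ 1 = γ 1 * y)
    (hx : ∀ y ∈ R, y * ev γ X7 = ev γ X7 * y) : Nat.card R ≤ 64 := by
  refine (card_le h F c7 chk7 fix7 (c := 0) s01 m7 (N := 14) ?_ (by norm_num) hR ha hx).trans (by decide)
  rw [Equiv.Perm.nat_card_centralizer, t7]
  decide

omit F in
/-- 2-subgroups of the centralizer of an element of odd prime order -/
theorem two_bound (hone : ∀ u : G, orderOf u = 2 → ∃ g : G, g * u * g⁻¹ = γ 1) {x : G} {p : ℕ} (hx : orderOf x = p)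
    (hp : p.Prime) (hp2 : p ≠ 2) : ¬ 2 ^ 7 ∣ Nat.card ↥(centralizer ({x} : Set G)) := by
  have hfin := h.fin
  have hf2 : Fact (Nat.Prime 2) := ⟨Nat.prime_two⟩
  intro hd
  obtain ⟨K, hK⟩ := Sylow.exists_subgroup_card_pow_prime (G := ↥(centralizer ({x} : Set G))) 2 hd
  have hKp : IsPGroup 2 K := IsPGroup.of_card hK
  have hnt : Nontrivial K := Finite.one_lt_card_iff_nontrivial.1 (by rw [hK]; norm_num)
  have hZ : Nontrivial ↥(center ↥K) := hKp.center_nontrivial
  have hZp : IsPGroup 2 ↥(center ↥K) := hKp.to_subgroup _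
  obtain ⟨n, hn, hcard⟩ := (hZp.nontrivial_iff_card).1 hZ
  obtain ⟨z, hz⟩ := exists_prime_orderOf_dvd_card' (G := ↥(center ↥K)) 2 (by rw [hcard]; exact dvd_pow_self 2 (by omega))
  let t : G := (((z : ↥K) : ↥(centralizer ({x} : Set G))) : G)
  have ht : orderOf t = 2 := by
    change orderOf (((z : ↥K) : ↥(centralizer ({x} : Set G))) : G) = 2
    rw [Subgroup.orderOf_coe, Subgroup.orderOf_coe, Subgroup.orderOf_coe, hz]
  have htx : t * x = x * t := mem_centralizer_singleton_iff.1 ((z : ↥K) : ↥(centralizer ({x} : Set G))).2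
  let R : Subgroup G := K.map (centralizer ({x} : Set G)).subtype
  have hRc : Nat.card R = 2 ^ 7 := by
    rw [← hK]
    exact card_map_of_injective (Subgroup.subtype_injective _)
  have hRt : ∀ y ∈ R, y * t = t * y := by
    rintro _ ⟨y, hy, rfl⟩
    exact congrArg (fun w : ↥K => ((w : ↥(centralizer ({x} : Set G))) : G)) (mem_center_iff.1 z.2 ⟨y, hy⟩)
  have hRx : ∀ y ∈ R, y * x = x * y := by
    rintro _ ⟨y, hy, rfl⟩
    exact mem_centralizer_singleton_iff.1 y.2
  obtain ⟨f, F⟩ := Cfsg.Agent.CpAutTh.Local.exists_epi h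
  -- the conclusion from a conjugation
  have key : ∀ (g : G) (w : G), g * t * g⁻¹ = γ 1 → g * x * g⁻¹ = w →
      (∀ S : Subgroup G, IsPGroup 2 S → (∀ y ∈ S, y * γ 1 = γ 1 * y) → (∀ y ∈ S, y * w = w * y) →
        Nat.card S ≤ 64) → False := by
    intro g w hg hw hall
    have hconj : ∀ (v : G), (∀ y ∈ R, y * v = v * y) → ∀ y ∈ R.map (MulAut.conj g).toMonoidHom,
        y * (g * v * g⁻¹) = g * v * g⁻¹ * y := by
      rintro v hv _ ⟨y, hy, rfl⟩
      change g * y * g⁻¹ * (g * v * g⁻¹) = g * v * g⁻¹ * (g * y * g⁻¹)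
      calc g * y * g⁻¹ * (g * v * g⁻¹) = g * (y * v) * g⁻¹ := by group
        _ = g * (v * y) * g⁻¹ := by rw [hv y hy]
        _ = _ := by group
    have h1 : Nat.card ↥(R.map (MulAut.conj g).toMonoidHom) = 2 ^ 7 := by
      rw [card_map_of_injective (MulAut.conj g).injective, hRc]
    have h2 := hall (R.map (MulAut.conj g).toMonoidHom) (IsPGroup.of_card h1) (by rw [← hg]; exact hconj t hRt)
      (by rw [← hw]; exact hconj x hRx)
    rw [h1] at h2
    norm_num at h2
  -- the possible primes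
  have hpd : p ∣ 92897280 := by
    rw [← Cfsg.Agent.CpAutTh.Mid.card_cent h hone ht, ← hx]
    have h0 : orderOf (⟨x, mem_centralizer_singleton_iff.2 htx.symm⟩ : ↥(centralizer ({t} : Set G))) = orderOf x := by
      rw [Subgroup.orderOf_mk]
    exact h0 ▸ orderOf_dvd_natCard _
  have h357 : p = 3 ∨ p = 5 ∨ p = 7 := by
    have h1 : (92897280 : ℕ) = 2 ^ 15 * (3 ^ 4 * (5 * 7)) := by norm_num
    rw [h1] at hpd
    rcases hp.dvd_mul.1 hpd with h2 | h2
    · exact absurd ((Nat.prime_dvd_prime_iff_eq hp Nat.prime_two).1 (hp.dvd_of_dvd_pow h2)) hp2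
    rcases hp.dvd_mul.1 h2 with h3 | h3
    · exact Or.inl ((Nat.prime_dvd_prime_iff_eq hp Nat.prime_three).1 (hp.dvd_of_dvd_pow h3))
    rcases hp.dvd_mul.1 h3 with h4 | h4
    · exact Or.inr (Or.inl ((Nat.prime_dvd_prime_iff_eq hp Nat.prime_five).1 h4))
    · exact Or.inr (Or.inr ((Nat.prime_dvd_prime_iff_eq hp (by norm_num)).1 h4))
  rcases h357 with rfl | rfl | rfl
  · obtain ⟨g, h1, h2 | h2 | h2⟩ := exists_pair h hone hx ht htx
      (P := fun z => z = ev γ X3 ∨ z = ev γ X33 ∨ z = ev γ X333) (fun y hy => by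
        obtain ⟨c, hc | hc | hc⟩ := exists_rep_three h F hy
        · exact ⟨c, Or.inl (congrArg Subtype.val hc)⟩
        · exact ⟨c, Or.inr (Or.inl (congrArg Subtype.val hc))⟩
        · exact ⟨c, Or.inr (Or.inr (congrArg Subtype.val hc))⟩)
    · exact key g _ h1 h2 fun S hS ha hx => card_le_three h F hS ha hx
    · exact key g _ h1 h2 fun S hS ha hx => card_le_three_three h F hS ha hx
    · exact key g _ h1 h2 fun S hS ha hx => card_le_triple h F hS ha hx
  · obtain ⟨g, h1, h2⟩ := exists_pair h hone hx ht htx (P := fun z => z = ev γ X5) (fun y hy => by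
        obtain ⟨c, hc⟩ := exists_rep_five h F hy
        exact ⟨c, congrArg Subtype.val hc⟩)
    exact key g _ h1 h2 fun S hS ha hx => card_le_five h F hS ha hx
  · obtain ⟨g, h1, h2⟩ := exists_pair h hone hx ht htx (P := fun z => z = ev γ X7) (fun y hy => by
        obtain ⟨c, hc⟩ := exists_rep_seven h F hy
        exact ⟨c, congrArg Subtype.val hc⟩)
    exact key g _ h1 h2 fun S hS ha hx => card_le_seven h F hS ha hx

end

/-! ### `Th` -/

theorem finite : Finite Spor.Th := Cfsg.Agent.KFacts.Th.Main.finite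

theorem card_th : Nat.card Spor.Th = 90745943887872000 := Cfsg.Agent.S1700.result.2

/-- **The 2-part of the centralizers of the elements of odd prime order** -/
theorem two_bound_th {x : Spor.Th} (hp : (orderOf x).Prime) (hp2 : orderOf x ≠ 2) :
    ¬ 2 ^ 7 ∣ Nat.card ↥(centralizer ({x} : Set Spor.Th)) :=
  two_bound Cfsg.Agent.KFacts.Th.Main.ctx Cfsg.Agent.CpAutTh.Main.hone rfl hp hp2

/-- a subgroup of order `19 * 31` -/
theorem no_sub {K : Subgroup Spor.Th} (hK : Nat.card K = 31 * 19) : False := by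
  have hfin := finite
  have hsim := Cfsg.Agent.CpAutTh.Main.simple
  have h31 : Nat.Prime 31 := by norm_num
  have h19 : Nat.Prime 19 := by norm_num
  have hf31 : Fact (Nat.Prime 31) := ⟨h31⟩
  have hf19 : Fact (Nat.Prime 19) := ⟨h19⟩
  have hsol : Group.IsSolvable K := S0205.result (by rw [hK]; decide)
  have hdv : ∀ p : ℕ, p.Prime → p ∣ Nat.card K → p = 31 ∨ p = 19 := by
    intro p hp hd
    rw [hK] at hd
    rcases hp.dvd_mul.1 hd with h1 | h1
    · exact Or.inl ((Nat.prime_dvd_prime_iff_eq hp h31).1 h1)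
    · exact Or.inr ((Nat.prime_dvd_prime_iff_eq hp h19).1 h1)
  have hi1 : ∀ p i : ℕ, p = 31 ∨ p = 19 → 0 < i → p ^ i ∣ Nat.card K → i = 1 := by
    intro p i hp hi hd
    by_contra hcon
    have h1 : p ^ 2 ∣ 31 * 19 := (pow_dvd_pow p (show 2 ≤ i by omega)).trans (hK ▸ hd)
    rcases hp with rfl | rfl <;> norm_num at h1
  obtain ⟨u, hu⟩ := exists_prime_orderOf_dvd_card' (G := ↥K) 31 (by rw [hK]; norm_num)
  obtain ⟨v, hv⟩ := exists_prime_orderOf_dvd_card' (G := ↥K) 19 (by rw [hK]; norm_num)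
  have hu' : orderOf (u : Spor.Th) = 31 := by rw [orderOf_coe, hu]
  have hv' : orderOf (v : Spor.Th) = 19 := by rw [orderOf_coe, hv]
  have n1 : K ≤ H149.Sp.Eng.Nm (u : Spor.Th) := by
    refine H149.Sp.Eng.le_nm_of_solvable h31 (by rw [card_th]; norm_num) hsol ?_ u.2 hu'
    intro p i hp hps hi hd
    rcases hdv p hp ((dvd_pow_self p hi.ne').trans hd) with h1 | h1
    · exact absurd h1 hps
    · rw [hi1 p i (Or.inr h1) hi hd, h1]
      norm_num
  have n2 : K ≤ H149.Sp.Eng.Nm (v : Spor.Th) := by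
    refine H149.Sp.Eng.le_nm_of_solvable h19 (by rw [card_th]; norm_num) hsol ?_ v.2 hv'
    intro p i hp hps hi hd
    rcases hdv p hp ((dvd_pow_self p hi.ne').trans hd) with h1 | h1
    · rw [hi1 p i (Or.inl h1) hi hd, h1]
      norm_num
    · exact absurd h1 hps
  have hcop : Nat.Coprime (orderOf (u : Spor.Th)) (orderOf (v : Spor.Th)) := by rw [hu', hv']; norm_num
  have huv : (u : Spor.Th) * v = v * u := by
    have h1 : (u : Spor.Th) * v * (u : Spor.Th)⁻¹ ∈ zpowers (v : Spor.Th) :=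
      (H149.Sp.Eng.mem_nm.1 (n2 u.2) v).1 (mem_zpowers _)
    have h2 : (v : Spor.Th) * (u : Spor.Th)⁻¹ * (v : Spor.Th)⁻¹ ∈ zpowers (u : Spor.Th) :=
      (H149.Sp.Eng.mem_nm.1 (n1 v.2) (u : Spor.Th)⁻¹).1 (inv_mem (mem_zpowers _))
    have h3 : (u : Spor.Th) * v * (u : Spor.Th)⁻¹ * (v : Spor.Th)⁻¹ ∈ zpowers (v : Spor.Th) :=
      mul_mem h1 (inv_mem (mem_zpowers _))
    have h4 : (u : Spor.Th) * v * (u : Spor.Th)⁻¹ * (v : Spor.Th)⁻¹ ∈ zpowers (u : Spor.Th) := by
      have h5 := mul_mem (mem_zpowers (u : Spor.Th)) h2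
      have h6 : (u : Spor.Th) * (v * (u : Spor.Th)⁻¹ * (v : Spor.Th)⁻¹) = u * v * (u : Spor.Th)⁻¹ * (v : Spor.Th)⁻¹ := by
        group
      rwa [h6] at h5
    have h5 : (u : Spor.Th) * v * (u : Spor.Th)⁻¹ * (v : Spor.Th)⁻¹ = 1 := by
      rw [← orderOf_eq_one_iff]
      exact Nat.eq_one_of_dvd_coprimes hcop (orderOf_dvd_of_mem_zpowers h4) (orderOf_dvd_of_mem_zpowers h3)
    have h6 := mul_inv_eq_one.1 h5
    exact mul_inv_eq_iff_eq_mul.1 h6
  exact H149.Sp.not_adj_th (H163.PG.adj_of_commute h31 h19 (by norm_num) hu' hv' huv)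

/-- one of the elements is an involution -/
theorem inv_case {a b : Spor.Th} (ha : a ≠ 1) (hb : orderOf b = 2) (h : Fac a b) : False := by
  have hfin := finite
  have hsim := Cfsg.Agent.CpAutTh.Main.simple
  have hb1 : b ≠ 1 := by
    rintro rfl
    rw [orderOf_one] at hb
    norm_num at hb
  have hodd : Odd (Nat.card ↥(centralizer ({a} : Set Spor.Th))) := by
    rw [← Nat.not_even_iff_odd, even_iff_two_dvd]
    intro h2
    have hf : Fact (Nat.Prime 2) := ⟨Nat.prime_two⟩
    obtain ⟨t, ht⟩ := exists_prime_orderOf_dvd_card' 2 h2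
    obtain ⟨k, hk⟩ := isConj_iff.1 (MonsterX.ThOneClass.oneClass b (t : Spor.Th) hb (by rw [orderOf_coe, ht]))
    have h3 := h.ne Cfsg.Agent.CpAutTh.Main.noncomm ha hb1 k
    rw [hk] at h3
    exact h3 (mem_centralizer_singleton_iff.1 t.2).symm
  have hsol : Group.IsSolvable ↥(centralizer ({a} : Set Spor.Th)) := S0205.result hodd
  have hd := h.card_dvd
  rw [card_th, MonsterX.ThOneClass.card_centralizer hb] at hd
  have h31 : 31 ∣ Nat.card ↥(centralizer ({a} : Set Spor.Th)) := by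
    have h1 : 31 ∣ Nat.card ↥(centralizer ({a} : Set Spor.Th)) * 92897280 := (show 31 ∣ 90745943887872000 by norm_num).trans hd
    exact ((show Nat.Prime 31 by norm_num).dvd_mul.1 h1).resolve_right (by norm_num)
  have h19 : 19 ∣ Nat.card ↥(centralizer ({a} : Set Spor.Th)) := by
    have h1 : 19 ∣ Nat.card ↥(centralizer ({a} : Set Spor.Th)) * 92897280 := (show 19 ∣ 90745943887872000 by norm_num).trans hd
    exact ((show Nat.Prime 19 by norm_num).dvd_mul.1 h1).resolve_right (by norm_num)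
  obtain ⟨m, hm⟩ := (show Nat.Coprime 31 19 by norm_num).mul_dvd_of_dvd_of_dvd h31 h19
  have hG := card_subgroup_dvd_card (centralizer ({a} : Set Spor.Th))
  rw [card_th, hm] at hG
  have h31m : ¬ 31 ∣ m := by
    rintro ⟨m', rfl⟩
    have h1 : 31 * 31 ∣ 90745943887872000 := (show 31 * 31 ∣ 31 * 19 * (31 * m') from ⟨19 * m', by ring⟩).trans hG
    norm_num at h1
  have h19m : ¬ 19 ∣ m := by
    rintro ⟨m', rfl⟩
    have h1 : 19 * 19 ∣ 90745943887872000 := (show 19 * 19 ∣ 31 * 19 * (19 * m') from ⟨31 * m', by ring⟩).trans hG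
    norm_num at h1
  obtain ⟨H, hH⟩ := Solvable.Hall.hall_exists (31 * 19) m hm (Nat.Coprime.mul_left
    ((Nat.Prime.coprime_iff_not_dvd (by norm_num)).2 h31m) ((Nat.Prime.coprime_iff_not_dvd (by norm_num)).2 h19m))
  refine no_sub (K := H.map (centralizer ({a} : Set Spor.Th)).subtype) ?_
  rw [← hH]
  exact card_map_of_injective (Subgroup.subtype_injective _)

theorem szep_Th : Szep Spor.Th := by
  have hfin := finite
  have hsim := Cfsg.Agent.CpAutTh.Main.simple
  refine szep_of fun a b ha hb h => ?_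
  by_cases hb2 : orderOf b = 2
  · exact inv_case (ne_one_of_prime ha) hb2 h
  by_cases ha2 : orderOf a = 2
  · exact inv_case (ne_one_of_prime hb) ha2 h.symm
  have h1 := two_bound_th ha ha2
  have h2 := two_bound_th hb hb2
  have h3 : 2 ^ (6 + 6 + 1) ∣ Nat.card ↥(centralizer ({a} : Set Spor.Th)) * Nat.card ↥(centralizer ({b} : Set Spor.Th)) :=
    (show 2 ^ (6 + 6 + 1) ∣ 90745943887872000 by norm_num).trans (card_th ▸ h.card_dvd)
  have hpos : Nat.card ↥(centralizer ({a} : Set Spor.Th)) * Nat.card ↥(centralizer ({b} : Set Spor.Th)) ≠ 0 :=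
    Nat.mul_ne_zero Nat.card_pos.ne' Nat.card_pos.ne'
  rw [Nat.prime_two.pow_dvd_iff_le_factorization hpos, Nat.factorization_mul Nat.card_pos.ne' Nat.card_pos.ne',
    Finsupp.add_apply] at h3
  rw [Nat.prime_two.pow_dvd_iff_le_factorization Nat.card_pos.ne'] at h1 h2
  omega

/-- **The row `Th`** -/
theorem szep_th {G : Type*} [Group G] [Finite G] [IsSimpleGroup G] (h : Spor.IsoTh G) : Cfsg.Agent.H105.Sz.Szep G :=
  h.elim fun e => szep_Th.of_equiv e

end Cfsg.Agent.H525.SzepTh
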