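import Cfsg.Agent.H576.Ext.Defs
import Cfsg.Agent.S0157
import Cfsg.Agent.S0886
import Cfsg.Agent.S0888
import Cfsg.Agent.Characters.Clifford
import Cfsg.Agent.CharactersDeep.CliffordSum
import Cfsg.Agent.Blocks.Deflate
import Cfsg.Prelude.Def_KGroupFacts

/-!
# Extending characters: multiplicity one, extension in steps, permutation characters, cyclic Sylow subgroups of `Out S`
(helper525, for the statement 4832, part EXT-1B)
-/

set_option autoImplicit false
set_option linter.unusedVariables false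

open scoped ComplexConjugate
open Cfsg

namespace Cfsg.Agent.H576.Ext

open Cfsg.Agent.Characters.Core Cfsg.Agent.Characters.Clifford

universe u v w

/-! ### General facts on a normal subgroup -/

section Gen

variable {G : Type v} [Group G]

/-- `N` normal, `ϑ` invariant, `χ` a character of `G` containing `ϑ` exactly once: `ϑ` extends. -/
theorem exists_ext_of_mult_one [Fintype G] (N : Subgroup G) [N.Normal] [Fintype N] {ϑ : N → ℂ}
    (hϑ : IsIrrCharacter N ϑ) (hinv : ∀ g : G, ϑ ∘ (MulAut.conjNormal g : MulAut N) = ϑ) {χ : G → ℂ}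
    (hχ : IsCharacter G χ) (h : classInner (fun n : N => χ n) ϑ = 1) :
    ∃ ψ : G → ℂ, IsIrrCharacter G ψ ∧ ∀ n : N, ψ n = ϑ n := by
  classical
  have := finite_irr (G := G)
  have := Fintype.ofFinite (IrrCharacter G)
  obtain ⟨m, hm⟩ := exists_nat_comb hχ
  choose c hc using fun ψ : IrrCharacter G =>
    classInner_isNat (isCharacter_restrict N (isIrr_isCharacter ψ.2)) (isIrr_isCharacter hϑ)
  have h1 : ∑ ψ : IrrCharacter G, m ψ * c ψ = 1 := by
    have e : (fun n : N => χ n) = ∑ ψ : IrrCharacter G, (m ψ : ℂ) • (fun n : N => (ψ : G → ℂ) n) := by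
      funext n
      rw [hm]
      simp [Finset.sum_apply]
    rw [e, classInner_sum_left] at h
    simp only [classInner_smul_left, hc] at h
    exact_mod_cast h
  obtain ⟨ψ, -, hψ⟩ : ∃ ψ ∈ Finset.univ, m ψ * c ψ ≠ 0 :=
    Finset.exists_ne_zero_of_sum_ne_zero (by rw [h1]; exact one_ne_zero)
  have hle : m ψ * c ψ ≤ 1 := by
    rw [← h1]
    exact Finset.single_le_sum (f := fun ψ => m ψ * c ψ) (fun _ _ => Nat.zero_le _) (Finset.mem_univ ψ)
  have hc1 : c ψ = 1 := by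
    have h2 : 1 ≤ m ψ := Nat.one_le_iff_ne_zero.2 (left_ne_zero_of_mul hψ)
    have h3 : 1 ≤ c ψ := Nat.one_le_iff_ne_zero.2 (right_ne_zero_of_mul hψ)
    nlinarith
  have h0 : classInner (fun n : N => (ψ : G → ℂ) n) ϑ ≠ 0 := by
    rw [hc, hc1]
    norm_num
  have key := Cfsg.Agent.CharactersDeep.CliffordSum.restrict_eq_smul_sum N ψ.2 hϑ h0
  have himg : Finset.univ.image (fun x : G => ϑ ∘ (MulAut.conjNormal x : MulAut N)) = {ϑ} := by
    ext φ
    simp only [Finset.mem_image, Finset.mem_univ, true_and, Finset.mem_singleton, hinv]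
    exact ⟨fun ⟨_, h⟩ => h.symm, fun h => ⟨1, h.symm⟩⟩
  rw [himg, Finset.sum_singleton, hc, hc1, Nat.cast_one, one_smul] at key
  exact ⟨ψ, ψ.2, fun n => congrFun key n⟩

/-- the isomorphism between `N` inside `P` and `N` -/
theorem isIrr_subgroupOf {N P : Subgroup G} (hNP : N ≤ P) {ϑ : N → ℂ} (hϑ : IsIrrCharacter N ϑ) :
    IsIrrCharacter (N.subgroupOf P) (fun x => ϑ ⟨(x : P), Subgroup.mem_subgroupOf.mp x.2⟩) :=
  isIrr_comp (Subgroup.subgroupOfEquivOfLe hNP).toMonoidHom (Subgroup.subgroupOfEquivOfLe hNP).surjective hϑ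

/-- cyclic quotient, in terms of a generator -/
theorem exists_ext_of_gen [Finite G] (N : Subgroup G) [hN : N.Normal] {ϑ : N → ℂ}
    (hϑ : IsIrrCharacter N ϑ)
    (hinv : ∀ (g : G) (n : N), ϑ ⟨g * n * g⁻¹, hN.conj_mem (n : G) n.2 g⟩ = ϑ n)
    (hgen : ∃ γ : G, ∀ α : G, ∃ k : ℤ, ∃ d ∈ N, α = d * γ ^ k) :
    ∃ χ : G → ℂ, IsIrrCharacter G χ ∧ ∀ n : N, χ n = ϑ n := by
  obtain ⟨γ, hγ⟩ := hgen
  refine Cfsg.Agent.S0886.result N ⟨⟨(γ : G ⧸ N), ?_⟩⟩ ϑ hϑ hinv
  intro x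
  obtain ⟨α, rfl⟩ := QuotientGroup.mk_surjective x
  obtain ⟨k, d, hd, rfl⟩ := hγ α
  refine ⟨k, ?_⟩
  simp only [QuotientGroup.mk_mul, QuotientGroup.mk_zpow]
  rw [(QuotientGroup.eq_one_iff d).2 hd, one_mul]

/-- cyclic Sylow subgroups of the quotient -/
theorem exists_ext_of_sylow_cyclic [Finite G] (N : Subgroup G) [hN : N.Normal] {ϑ : N → ℂ}
    (hϑ : IsIrrCharacter N ϑ)
    (hinv : ∀ (g : G) (n : N), ϑ ⟨g * n * g⁻¹, hN.conj_mem (n : G) n.2 g⟩ = ϑ n)
    (hcyc : ∀ ℓ : ℕ, ℓ.Prime → ∀ P : Subgroup G, IsPGroup ℓ P →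
      ∃ γ ∈ P, ∀ α ∈ P, ∃ k : ℤ, ∃ d ∈ N, α = d * γ ^ k) :
    ∃ χ : G → ℂ, IsIrrCharacter G χ ∧ ∀ n : N, χ n = ϑ n := by
  refine Cfsg.Agent.S0888.result N ϑ hϑ hinv fun p hp => ?_
  have : Fact p.Prime := ⟨hp⟩
  obtain ⟨P₀⟩ : Nonempty (Sylow p G) := inferInstance
  obtain ⟨γ, hγ, hall⟩ := hcyc p hp P₀ P₀.isPGroup'
  have hNP : N ≤ N ⊔ (P₀ : Subgroup G) := le_sup_left
  have hPP : (P₀ : Subgroup G) ≤ N ⊔ (P₀ : Subgroup G) := le_sup_right
  have hn : (N.subgroupOf (N ⊔ (P₀ : Subgroup G))).Normal := hN.subgroupOf _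
  obtain ⟨η, hη, hres⟩ := exists_ext_of_gen (N.subgroupOf (N ⊔ (P₀ : Subgroup G)))
    (isIrr_subgroupOf hNP hϑ) (fun g n => hinv (g : G) ⟨((n : _) : G), Subgroup.mem_subgroupOf.mp n.2⟩)
    ⟨⟨γ, hPP hγ⟩, by
      rintro ⟨α, hα⟩
      rw [Subgroup.mem_sup_of_normal_left] at hα
      obtain ⟨d₁, hd₁, β, hβ, rfl⟩ := hα
      obtain ⟨k, d, hd, rfl⟩ := hall β hβ
      refine ⟨k, ⟨d₁ * d, hNP (N.mul_mem hd₁ hd)⟩, Subgroup.mem_subgroupOf.2 (N.mul_mem hd₁ hd), ?_⟩
      apply Subtype.ext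
      simp [mul_assoc]⟩
  refine ⟨N ⊔ (P₀ : Subgroup G), hNP, η, ?_, ?_, hη, fun n => ?_⟩
  · have h1 : (N ⊔ (P₀ : Subgroup G)).index ∣ (P₀ : Subgroup G).index := Subgroup.index_dvd_of_le hPP
    rw [Nat.coprime_comm]
    exact (Nat.Prime.coprime_iff_not_dvd hp).2 fun h => P₀.not_dvd_index (h.trans h1)
  · have h1 : N.relIndex (N ⊔ (P₀ : Subgroup G)) = N.relIndex (P₀ : Subgroup G) := by
      rw [sup_comm]
      exact Subgroup.relIndex_sup_right _ _
    rw [h1]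
    have h2 : N.relIndex (P₀ : Subgroup G) ∣ Nat.card P₀ := Subgroup.relIndex_dvd_card _ _
    obtain ⟨n, hn⟩ := IsPGroup.iff_card.1 P₀.isPGroup'
    rw [hn] at h2
    obtain ⟨k, -, hk⟩ := (Nat.dvd_prime_pow hp).1 h2
    exact ⟨k, hk⟩
  · exact hres ⟨⟨(n : G), hNP n.2⟩, Subgroup.mem_subgroupOf.2 n.2⟩

/-- an irreducible character which is constant on the kernel of a surjective homomorphism comes from the image -/
theorem exists_irr_of_ker [Finite G] {H : Type w} [Group H] (f : G →* H) (hf : Function.Surjective f) {χ : G → ℂ}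
    (hχ : IsIrrCharacter G χ) (hker : ∀ z : G, f z = 1 → χ z = χ 1) :
    ∃ χ' : H → ℂ, IsIrrCharacter H χ' ∧ ∀ g, χ g = χ' (f g) := by
  classical
  have := Fintype.ofFinite f.ker
  obtain ⟨χ', hχ'⟩ := Cfsg.Agent.Blocks.Deflate.exists_deflation f.ker χ hχ (by
    rw [Finset.sum_congr rfl fun n _ => show χ ((n : f.ker) : G) = χ 1 from hker n n.2, Finset.sum_const,
      nsmul_eq_mul]
    refine mul_ne_zero ?_ (isIrr_apply_one_ne_zero hχ)
    exact Nat.cast_ne_zero.2 (Finset.card_ne_zero.2 ⟨1, Finset.mem_univ _⟩))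
  let e := QuotientGroup.quotientKerEquivOfSurjective f hf
  refine ⟨(χ' : G ⧸ f.ker → ℂ) ∘ e.symm, isIrr_comp e.symm.toMonoidHom e.symm.surjective χ'.2, fun g => ?_⟩
  refine (congrFun hχ' g).trans ?_
  have h1 : e.symm (f g) = (g : G ⧸ f.ker) := by
    rw [MulEquiv.symm_apply_eq]
    rfl
  exact congrArg (χ' : G ⧸ f.ker → ℂ) h1.symm

/-- the norm of a permutation character is the number of orbits on pairs -/
theorem classInner_perm [Fintype G] (Ω : Type w) [Finite Ω] [MulAction G Ω] :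
    classInner (fun g : G => ((Nat.card {x : Ω // g • x = x} : ℕ) : ℂ))
      (fun g => ((Nat.card {x : Ω // g • x = x} : ℕ) : ℂ)) =
      (Nat.card (Quotient (MulAction.orbitRel G (Ω × Ω))) : ℂ) := by
  rw [← Cfsg.Agent.S0157.avg_fixedBy (G := G) (Ω × Ω)]
  simp only [classInner, Cfsg.Agent.S0157.card_fixedBy_prod, Nat.cast_mul, Complex.conj_natCast]
  rfl

/-- constituents of a permutation character, restricted along a homomorphism `f : H → G` such that `G` and `H` have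
the same orbits on pairs -/
theorem exists_irr_of_perm [Finite G] {H : Type u} [Group H] [Finite H] (f : H →* G) {Ω : Type w} [Finite Ω]
    [MulAction G Ω] (hrank : ∀ (g : G) (x y : Ω), ∃ s : H, f s • x = g • x ∧ f s • y = g • y) {θ : H → ℂ}
    (hθ : IsIrrCharacter H θ)
    (h : ∀ [Fintype H], classInner (fun s : H => ((Nat.card {x : Ω // f s • x = x} : ℕ) : ℂ)) θ ≠ 0) :
    ∃ ψ : G → ℂ, IsIrrCharacter G ψ ∧ ∀ s, ψ (f s) = θ s := by
  classical
  have := Fintype.ofFinite G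
  have := Fintype.ofFinite H
  have := finite_irr (G := G)
  have := Fintype.ofFinite (IrrCharacter G)
  obtain ⟨Pc, hPc⟩ : ∃ Pc : G → ℂ, Pc = fun g => ((Nat.card {x : Ω // g • x = x} : ℕ) : ℂ) := ⟨_, rfl⟩
  have hPcc : IsCharacter G Pc := hPc ▸ Cfsg.Agent.S0157.isCharacter_fixedBy Ω
  -- the norms agree
  have hnorm : classInner (fun s : H => Pc (f s)) (fun s => Pc (f s)) = classInner Pc Pc := by
    let _ : MulAction H Ω := MulAction.compHom Ω f
    have e1 := classInner_perm (G := H) Ω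
    have e2 := classInner_perm (G := G) Ω
    rw [hPc, e2]
    refine e1.trans ?_
    congr 1
    refine Nat.card_congr (Quotient.congr (Equiv.refl _) ?_)
    rintro ⟨x, y⟩ ⟨x', y'⟩
    constructor
    · rintro ⟨s, hs⟩
      exact ⟨f s, hs⟩
    · rintro ⟨g, hg⟩
      obtain ⟨s, h1, h2⟩ := hrank g x' y'
      exact ⟨s, (Prod.ext h1 h2 : f s • (x', y') = g • (x', y')).trans hg⟩
  obtain ⟨m, hm⟩ := exists_nat_comb hPcc
  have hrc : ∀ ψ : IrrCharacter G, IsCharacter H (fun s => (ψ : G → ℂ) (f s)) :=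
    fun ψ => isCharacter_comp f (isIrr_isCharacter ψ.2)
  have hexp : (fun s : H => Pc (f s)) = ∑ ψ : IrrCharacter G, (m ψ : ℂ) • (fun s : H => (ψ : G → ℂ) (f s)) := by
    funext s
    rw [hm]
    simp [Finset.sum_apply]
  choose c hc using fun (ψ φ : IrrCharacter G) => classInner_isNat (hrc ψ) (hrc φ)
  have hcpos : ∀ ψ, 1 ≤ c ψ ψ := by
    intro ψ
    rw [Nat.one_le_iff_ne_zero]
    intro h0
    have h1 := hc ψ ψ
    rw [h0, Nat.cast_zero] at h1
    have h2 := congrFun (classInner_self_eq_zero h1) 1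
    exact isIrr_apply_one_ne_zero ψ.2 (by simpa using h2)
  have hsum : ∑ ψ : IrrCharacter G, ∑ φ : IrrCharacter G, m φ * (m ψ * c ψ φ) = ∑ ψ : IrrCharacter G, m ψ * m ψ := by
    have h2 := classInner_sum_smul_sum_smul (fun ψ : IrrCharacter G => (m ψ : ℂ))
      (fun ψ => (m ψ : ℂ))
    simp only [Nat.cast_smul_eq_nsmul] at h2
    rw [← hm, ← hnorm, hexp, classInner_sum_left] at h2
    simp only [classInner_smul_left, classInner_sum_right, classInner_smul_right, hc, Complex.conj_natCast] at h2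
    exact_mod_cast h2
  have hle : ∀ ψ : IrrCharacter G, m ψ * m ψ ≤ ∑ φ : IrrCharacter G, m φ * (m ψ * c ψ φ) := by
    intro ψ
    refine le_trans ?_ (Finset.single_le_sum (f := fun φ => m φ * (m ψ * c ψ φ)) (fun _ _ => Nat.zero_le _)
      (Finset.mem_univ ψ))
    exact Nat.mul_le_mul_left _ (Nat.le_mul_of_pos_right _ (hcpos ψ))
  have heq : ∀ ψ : IrrCharacter G, m ψ * m ψ = ∑ φ : IrrCharacter G, m φ * (m ψ * c ψ φ) := by
    have := (Finset.sum_eq_sum_iff_of_le (s := Finset.univ) (fun ψ _ => hle ψ)).1 hsum.symm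
    exact fun ψ => this ψ (Finset.mem_univ ψ)
  have hirr : ∀ ψ : IrrCharacter G, m ψ ≠ 0 → IsIrrCharacter H (fun s => (ψ : G → ℂ) (f s)) := by
    intro ψ hψ
    refine isIrr_of_classInner_self (hrc ψ) ?_
    have h1 : m ψ * (m ψ * c ψ ψ) ≤ m ψ * m ψ := by
      conv_rhs => rw [heq ψ]
      exact Finset.single_le_sum (f := fun φ => m φ * (m ψ * c ψ φ)) (fun _ _ => Nat.zero_le _)
        (Finset.mem_univ ψ)
    have h2 : c ψ ψ ≤ 1 := by
      have h3 : 0 < m ψ := Nat.pos_of_ne_zero hψ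
      have h4 := Nat.le_of_mul_le_mul_left h1 h3
      exact Nat.le_of_mul_le_mul_left (by linarith) h3
    have h3 : c ψ ψ = 1 := le_antisymm h2 (hcpos ψ)
    rw [hc, h3, Nat.cast_one]
  have h' := h
  have hne : classInner (fun s : H => Pc (f s)) θ ≠ 0 := by
    rw [hPc]
    exact h
  rw [hexp, classInner_sum_left] at hne
  obtain ⟨ψ, -, hψ⟩ := Finset.exists_ne_zero_of_sum_ne_zero hne
  rw [classInner_smul_left] at hψ
  have hm0 : m ψ ≠ 0 := by
    intro h0
    rw [h0, Nat.cast_zero, zero_mul] at hψ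
    exact hψ rfl
  refine ⟨ψ, ψ.2, ?_⟩
  by_contra hcon
  refine hψ ?_
  rw [classInner_irr_ne (hirr ψ hm0) hθ (fun h => hcon (fun s => congrFun h s)), mul_zero]

end Gen

/-! ### `S` inside a subgroup of `Aut S` -/

section Inn

variable {S : Type u} [Group S]

/-- the embedding `s ↦ conj s` of `S` in a subgroup of `Aut S` containing the inner automorphisms -/
def innHom {A : Subgroup (MulAut S)} (hI : (MulAut.conj (G := S)).range ≤ A) : S →* A :=
  (MulAut.conj (G := S)).codRestrict A fun s => hI ⟨s, rfl⟩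

theorem innHom_apply {A : Subgroup (MulAut S)} (hI : (MulAut.conj (G := S)).range ≤ A) (s : S) :
    innHom hI s = ⟨MulAut.conj s, hI ⟨s, rfl⟩⟩ := rfl

theorem coe_innHom {A : Subgroup (MulAut S)} (hI : (MulAut.conj (G := S)).range ≤ A) (s : S) :
    ((innHom hI s : A) : MulAut S) = MulAut.conj s := rfl

theorem conj_injective (hZ : Subgroup.center S = ⊥) : Function.Injective (MulAut.conj (G := S)) := by
  rw [injective_iff_map_eq_one]
  intro s hs
  rw [← Subgroup.mem_bot, ← hZ, Subgroup.mem_center_iff]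
  intro g
  have h : MulAut.conj s g = g := by rw [hs]; rfl
  rw [MulAut.conj_apply, mul_inv_eq_iff_eq_mul] at h
  exact h.symm

theorem innHom_injective (hZ : Subgroup.center S = ⊥) {A : Subgroup (MulAut S)}
    (hI : (MulAut.conj (G := S)).range ≤ A) : Function.Injective (innHom hI) := by
  intro s t h
  exact conj_injective hZ (congrArg Subtype.val h)

theorem mul_conj_mul_inv (α : MulAut S) (s : S) : α * MulAut.conj s * α⁻¹ = MulAut.conj (α s) := by
  ext x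
  simp [MulAut.conj_apply, map_mul, map_inv]

theorem conj_innHom {A : Subgroup (MulAut S)} (hI : (MulAut.conj (G := S)).range ≤ A) (a : A) (s : S) :
    a * innHom hI s * a⁻¹ = innHom hI ((a : MulAut S) s) := by
  apply Subtype.ext
  simp only [Subgroup.coe_mul, Subgroup.coe_inv, coe_innHom]
  exact mul_conj_mul_inv _ _

theorem innHom_normal {A : Subgroup (MulAut S)} (hI : (MulAut.conj (G := S)).range ≤ A) :
    (innHom hI).range.Normal where
  conj_mem := by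
    rintro _ ⟨s, rfl⟩ a
    exact ⟨(a : MulAut S) s, (conj_innHom hI a s).symm⟩

/-- `S` is isomorphic to its image -/
noncomputable def innEquiv (hZ : Subgroup.center S = ⊥) {A : Subgroup (MulAut S)}
    (hI : (MulAut.conj (G := S)).range ≤ A) : S ≃* (innHom hI).range :=
  MonoidHom.ofInjective (innHom_injective hZ hI)

theorem coe_innEquiv (hZ : Subgroup.center S = ⊥) {A : Subgroup (MulAut S)}
    (hI : (MulAut.conj (G := S)).range ≤ A) (s : S) : ((innEquiv hZ hI s : (innHom hI).range) : A) = innHom hI s :=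
  rfl

theorem isIrr_inn (hZ : Subgroup.center S = ⊥) {A : Subgroup (MulAut S)}
    (hI : (MulAut.conj (G := S)).range ≤ A) {θ : S → ℂ} (hθ : IsIrrCharacter S θ) :
    IsIrrCharacter (innHom hI).range (θ ∘ (innEquiv hZ hI).symm) :=
  isIrr_comp (innEquiv hZ hI).symm.toMonoidHom (innEquiv hZ hI).symm.surjective hθ

theorem inn_le_stab {θ : S → ℂ} (hθ : IsIrrCharacter S θ) : (MulAut.conj (G := S)).range ≤ stab θ := by
  rintro _ ⟨s, rfl⟩ t
  rw [MulAut.conj_apply]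
  exact isIrr_isClassFunction hθ t s

/-- the transported character is invariant -/
theorem inn_inv (hZ : Subgroup.center S = ⊥) {A : Subgroup (MulAut S)}
    (hI : (MulAut.conj (G := S)).range ≤ A) {θ : S → ℂ} (hA : A ≤ stab θ) (g : A) (n : (innHom hI).range) :
    (θ ∘ (innEquiv hZ hI).symm) ⟨g * n * g⁻¹, (innHom_normal hI).conj_mem (n : A) n.2 g⟩ =
      (θ ∘ (innEquiv hZ hI).symm) n := by
  obtain ⟨s, rfl⟩ := (innEquiv hZ hI).surjective n
  have h1 : (⟨g * (innEquiv hZ hI s : (innHom hI).range) * g⁻¹, (innHom_normal hI).conj_mem _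
      (innEquiv hZ hI s).2 g⟩ : (innHom hI).range) = innEquiv hZ hI ((g : MulAut S) s) := by
    apply Subtype.ext
    exact conj_innHom hI g s
  rw [h1]
  simp only [Function.comp_apply, MulEquiv.symm_apply_apply]
  exact hA g.2 s

/-- inner products may be computed on a group mapping onto `S` -/
theorem classInner_comp_surj {B : Type v} [Group B] [Fintype B] [Fintype S] (q : B →* S)
    (hq : Function.Surjective q) (φ ψ : S → ℂ) :
    classInner (fun b : B => φ (q b)) (fun b => ψ (q b)) = classInner φ ψ := by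
  classical
  have hfib : ∀ s : S, (Finset.univ.filter (fun b : B => q b = s)).card = Nat.card q.ker := by
    intro s
    obtain ⟨b₀, rfl⟩ := hq s
    rw [← Fintype.card_subtype, ← Nat.card_eq_fintype_card]
    refine Nat.card_congr ⟨fun b => ⟨b₀⁻¹ * b, ?_⟩, fun z => ⟨b₀ * z, ?_⟩, fun b => ?_, fun z => ?_⟩
    · rw [MonoidHom.mem_ker, map_mul, map_inv, b.2, inv_mul_cancel]
    · rw [map_mul, MonoidHom.mem_ker.1 z.2, mul_one]
    · apply Subtype.ext
      simp
    · apply Subtype.ext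
      simp
  have hcard : Nat.card B = Nat.card q.ker * Nat.card S := by
    rw [mul_comm, ← Nat.card_congr (QuotientGroup.quotientKerEquivOfSurjective q hq).toEquiv, mul_comm]
    rw [mul_comm]
    exact Subgroup.card_eq_card_quotient_mul_card_subgroup _
  have hsum : ∑ b : B, φ (q b) * conj (ψ (q b)) = (Nat.card q.ker : ℂ) * ∑ s : S, φ s * conj (ψ s) := by
    rw [← Finset.sum_fiberwise_of_maps_to (s := Finset.univ) (t := Finset.univ) (g := q)
      (fun _ _ => Finset.mem_univ _), Finset.mul_sum]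
    refine Finset.sum_congr rfl fun s _ => ?_
    rw [Finset.sum_congr rfl (g := fun _ => φ s * conj (ψ s))
      (fun b hb => by rw [(Finset.mem_filter.1 hb).2]), Finset.sum_const, hfib, nsmul_eq_mul]
  unfold classInner
  rw [hsum, hcard, Nat.cast_mul, mul_inv, ← mul_assoc]
  have h0 : (Nat.card q.ker : ℂ) ≠ 0 := by
    exact_mod_cast Nat.card_pos.ne'
  field_simp

end Inn

/-! ### The main statements -/

section Base

variable {S : Type u} [Group S] [Finite S] {θ : S → ℂ}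

/-- multiplicity one -/
theorem extTo_of_one (hZ : Subgroup.center S = ⊥) (hθ : IsIrrCharacter S θ) {A : Subgroup (MulAut S)}
    (hI : (MulAut.conj (G := S)).range ≤ A) {χ : A → ℂ} (hχ : IsIrrCharacter A χ)
    (h : ∀ [Fintype S], classInner (fun s : S => χ ⟨MulAut.conj s, hI ⟨s, rfl⟩⟩) θ = 1) :
    ExtTo θ (A ⊓ stab θ) := by
  classical
  have := Fintype.ofFinite S
  have := Fintype.ofFinite (MulAut S)
  have hI' : (MulAut.conj (G := S)).range ≤ A ⊓ stab θ := le_inf hI (inn_le_stab hθ)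
  have hN := innHom_normal hI'
  have := Fintype.ofFinite (A ⊓ stab θ : Subgroup (MulAut S))
  have := Fintype.ofFinite (innHom hI').range
  have hres : IsCharacter (A ⊓ stab θ : Subgroup (MulAut S))
      (fun t => χ (Subgroup.inclusion inf_le_left t)) := isCharacter_comp _ (isIrr_isCharacter hχ)
  obtain ⟨ψ, hψ, he⟩ := exists_ext_of_mult_one (innHom hI').range (isIrr_inn hZ hI' hθ)
    (fun g => by
      funext n
      exact inn_inv hZ hI' inf_le_right g n) hres (by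
      rw [← h, ← classInner_comp_mulEquiv (innEquiv hZ hI')]
      congr 1
      funext s
      simp)
  refine ⟨ψ, hψ, fun s hs => ?_⟩
  have := he (innEquiv hZ hI' s)
  rw [Function.comp_apply, MulEquiv.symm_apply_apply] at this
  exact this

/-- multiplicity one, for a group `B` mapping to `Aut S` -/
theorem extTo_of_hom (hZ : Subgroup.center S = ⊥) (hθ : IsIrrCharacter S θ) {B : Type v} [Group B] [Finite B]
    (π : B →* MulAut S) (N : Subgroup B) (q : N →* S) (hq : Function.Surjective q)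
    (hπ : ∀ n : N, π n = MulAut.conj (q n)) {χ : B → ℂ} (hχ : IsIrrCharacter B χ) (hker : ∀ z : B, π z = 1 → χ z = χ 1)
    (h : ∀ [Fintype N], classInner (fun n : N => χ n) (fun n : N => θ (q n)) = 1) :
    ExtTo θ (π.range ⊓ stab θ) := by
  classical
  have hI : (MulAut.conj (G := S)).range ≤ π.range := by
    rintro _ ⟨s, rfl⟩
    obtain ⟨n, rfl⟩ := hq s
    exact ⟨n, hπ n⟩
  -- `χ` is inflated from `π.range`
  obtain ⟨χ', hχ', he⟩ := exists_irr_of_ker π.rangeRestrict π.rangeRestrict_surjective hχ (by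
    intro z hz
    exact hker z (congrArg Subtype.val hz))
  refine extTo_of_one hZ hθ hI hχ' ?_
  intro _
  have := Fintype.ofFinite N
  rw [← h, ← classInner_comp_surj q hq]
  congr 1
  funext n
  rw [he]
  congr 1
  exact Subtype.ext (hπ n).symm

/-- extension in steps -/
theorem extTo_of_step (hZ : Subgroup.center S = ⊥) (hθ : IsIrrCharacter S θ) {A D : Subgroup (MulAut S)}
    (hI : (MulAut.conj (G := S)).range ≤ D) (hDA : D ≤ A) (hA : A ≤ stab θ)
    (hn : ∀ a ∈ A, ∀ d ∈ D, a * d * a⁻¹ ∈ D) {ψ : D → ℂ} (hψ : IsIrrCharacter D ψ)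
    (hψθ : ∀ s : S, ψ ⟨MulAut.conj s, hI ⟨s, rfl⟩⟩ = θ s)
    (hinv : ∀ (a : MulAut S) (ha : a ∈ A) (d : MulAut S) (hd : d ∈ D), ψ ⟨a * d * a⁻¹, hn a ha d hd⟩ = ψ ⟨d, hd⟩)
    (hcyc : ∀ ℓ : ℕ, ℓ.Prime → ∀ P : Subgroup (MulAut S), P ≤ A → IsPGroup ℓ P →
      ∃ γ ∈ P, ∀ α ∈ P, ∃ k : ℤ, ∃ d ∈ D, α = d * γ ^ k) : ExtTo θ A := by
  have hN : (D.subgroupOf A).Normal := ⟨fun d hd a => hn a a.2 d hd⟩
  obtain ⟨χ, hχ, he⟩ := exists_ext_of_sylow_cyclic (D.subgroupOf A) (isIrr_subgroupOf hDA hψ)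
    (fun g n => hinv g g.2 ((n : A) : MulAut S) (Subgroup.mem_subgroupOf.mp n.2)) (by
      intro ℓ hℓ P hP
      obtain ⟨γ, hγ, hall⟩ := hcyc ℓ hℓ (P.map A.subtype) (Subgroup.map_subtype_le P) (hP.map _)
      obtain ⟨γ', hγ', rfl⟩ := hγ
      refine ⟨γ', hγ', fun α hα => ?_⟩
      obtain ⟨k, d, hd, hk⟩ := hall α ⟨α, hα, rfl⟩
      refine ⟨k, ⟨d, hDA hd⟩, hd, Subtype.ext ?_⟩
      simpa using hk)
  refine ⟨χ, hχ, fun s hs => ?_⟩
  have := he ⟨⟨MulAut.conj s, hs⟩, hI ⟨s, rfl⟩⟩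
  exact this.trans (hψθ s)

/-- permutation characters: `A` acts on `Ω`, the orbits of `S` on `Ω × Ω` are orbits of `A`; every constituent of the
permutation character of `S` is `A`-invariant and extends -/
theorem extTo_of_perm (hZ : Subgroup.center S = ⊥) (hθ : IsIrrCharacter S θ) {A : Subgroup (MulAut S)}
    (hI : (MulAut.conj (G := S)).range ≤ A) {Ω : Type v} [Finite Ω] [MulAction A Ω]
    (hrank : ∀ (a : A) (x y : Ω), ∃ s : S, (⟨MulAut.conj s, hI ⟨s, rfl⟩⟩ : A) • x = a • x ∧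
      (⟨MulAut.conj s, hI ⟨s, rfl⟩⟩ : A) • y = a • y)
    (h : ∀ [Fintype S], classInner (fun s : S =>
      ((Nat.card {x : Ω // (⟨MulAut.conj s, hI ⟨s, rfl⟩⟩ : A) • x = x} : ℕ) : ℂ)) θ ≠ 0) :
    A ≤ stab θ ∧ ExtTo θ A := by
  obtain ⟨ψ, hψ, he⟩ := exists_irr_of_perm (innHom hI) (Ω := Ω) hrank hθ h
  refine ⟨fun α hα s => ?_, ψ, hψ, fun s hs => he s⟩
  rw [← he, ← he, ← conj_innHom hI ⟨α, hα⟩ s]
  exact isIrr_isClassFunction hψ _ _

/-! ### criteria for `SylCyc` -/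

omit [Finite S] in
/-- a subgroup of `Aut S` with cyclic image in `Out S` -/
theorem exists_gen_of_isCyclic_map {P : Subgroup (MulAut S)}
    (h : IsCyclic (P.map (QuotientGroup.mk' (Cfsg.Inn S)))) :
    ∃ γ ∈ P, ∀ α ∈ P, ∃ (k : ℤ) (s : S), α = MulAut.conj s * γ ^ k := by
  obtain ⟨⟨_, γ, hγ, rfl⟩, hg⟩ := h.exists_generator
  refine ⟨γ, hγ, fun α hα => ?_⟩
  obtain ⟨k, hk⟩ := hg ⟨QuotientGroup.mk' (Cfsg.Inn S) α, α, hα, rfl⟩
  have h1 : QuotientGroup.mk' (Cfsg.Inn S) γ ^ k = QuotientGroup.mk' (Cfsg.Inn S) α := congrArg Subtype.val hk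
  have h2 : α * (γ ^ k)⁻¹ ∈ Cfsg.Inn S := by
    rw [← QuotientGroup.ker_mk' (Cfsg.Inn S), MonoidHom.mem_ker, map_mul, map_inv, map_zpow, h1, mul_inv_cancel]
  obtain ⟨s, hs⟩ := h2
  exact ⟨k, s, by rw [hs, inv_mul_cancel_right]⟩

theorem sylCyc_of_isCyclic (h : IsCyclic (Cfsg.Out S)) : SylCyc S := by
  intro ℓ _ P _ _
  exact exists_gen_of_isCyclic_map inferInstance

theorem sylCyc_of_squarefree (h : Squarefree (Nat.card (Cfsg.Out S))) : SylCyc S := by
  intro ℓ hℓ P _ hP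
  have : Fact ℓ.Prime := ⟨hℓ⟩
  refine exists_gen_of_isCyclic_map ?_
  have h1 : IsPGroup ℓ (P.map (QuotientGroup.mk' (Cfsg.Inn S))) := hP.map _
  obtain ⟨n, hn⟩ := IsPGroup.iff_card.1 h1
  have h2 : Nat.card (P.map (QuotientGroup.mk' (Cfsg.Inn S))) ∣ Nat.card (Cfsg.Out S) := Subgroup.card_subgroup_dvd_card _
  rw [hn] at h2
  have h3 : n ≤ 1 := by
    by_contra hcon
    push Not at hcon
    have h4 : ℓ * ℓ ∣ Nat.card (Cfsg.Out S) := by
      rw [← pow_two]
      exact (pow_dvd_pow ℓ hcon).trans h2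
    exact hℓ.one_lt.ne' (Nat.isUnit_iff.1 (h ℓ h4))
  interval_cases n
  · rw [pow_zero] at hn
    have := (Nat.card_eq_one_iff_unique.1 hn).1
    infer_instance
  · rw [pow_one] at hn
    exact isCyclic_of_prime_card hn

theorem sylCyc_of_gen (h : ∃ γ : MulAut S, ∀ α : MulAut S, ∃ (k : ℤ) (s : S), α = MulAut.conj s * γ ^ k) : SylCyc S := by
  refine sylCyc_of_isCyclic ?_
  obtain ⟨γ, hγ⟩ := h
  refine ⟨⟨(γ : Cfsg.Out S), fun x => ?_⟩⟩
  obtain ⟨α, rfl⟩ := QuotientGroup.mk_surjective x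
  obtain ⟨k, s, rfl⟩ := hγ α
  refine ⟨k, ?_⟩
  have h1 : ((MulAut.conj s : MulAut S) : Cfsg.Out S) = 1 := (QuotientGroup.eq_one_iff _).2 ⟨s, rfl⟩
  simp only [QuotientGroup.mk_mul, QuotientGroup.mk_zpow, h1, one_mul]

omit [Finite S] in
theorem SylCyc.of_equiv {S : Type u} {S' : Type v} [Group S] [Group S'] (e : S ≃* S') (h : SylCyc S') : SylCyc S := by
  intro ℓ hℓ P _ hP
  obtain ⟨γ, hγ, hall⟩ := h ℓ hℓ (P.map (MulAut.congr e).toMonoidHom) le_top (hP.map _)
  obtain ⟨γ', hγ', rfl⟩ := hγ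
  refine ⟨γ', hγ', fun α hα => ?_⟩
  obtain ⟨k, s, hk⟩ := hall _ ⟨α, hα, rfl⟩
  refine ⟨k, e.symm s, (MulAut.congr e).injective ?_⟩
  refine hk.trans ?_
  rw [map_mul, map_zpow]
  congr 1
  ext x
  simp [MulAut.congr, MulAut.conj_apply]

omit [Finite S] in
theorem mem_of_pow_mem {G : Type*} [Group G] {x : G} {H : Subgroup G} {a b : ℕ} (h : Nat.Coprime a b) (ha : x ^ a = 1)
    (hb : x ^ b ∈ H) : x ∈ H := by
  have h5 := Nat.gcd_eq_gcd_ab a b
  rw [h] at h5
  have h6 : x = (x ^ b) ^ (Nat.gcdB a b) := by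
    calc x = x ^ (((1 : ℕ) : ℤ)) := by simp
      _ = _ := by
        rw [h5, zpow_add, zpow_mul, zpow_natCast, ha, one_zpow, one_mul, zpow_mul, zpow_natCast]
  rw [h6]
  exact Subgroup.zpow_mem _ hb _

omit [Finite S] in
theorem isCyclic_quot {D : Subgroup (MulAut S)} [D.Normal]
    (h2 : ∃ γ : MulAut S, ∀ α : MulAut S, ∃ k : ℤ, ∃ d ∈ D, α = d * γ ^ k) : IsCyclic (MulAut S ⧸ D) := by
  obtain ⟨γ, hγ⟩ := h2
  refine ⟨⟨(γ : MulAut S ⧸ D), fun x => ?_⟩⟩
  obtain ⟨α, rfl⟩ := QuotientGroup.mk_surjective x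
  obtain ⟨k, d, hd, rfl⟩ := hγ α
  refine ⟨k, ?_⟩
  simp only [QuotientGroup.mk_mul, QuotientGroup.mk_zpow]
  rw [(QuotientGroup.eq_one_iff d).2 hd, one_mul]

/-- `Inn ≤ D ⊴ Aut S`, `D / Inn` and `Aut S / D` cyclic, of coprime orders -/
theorem sylCyc_of_two {D : Subgroup (MulAut S)} [D.Normal] (hI : (MulAut.conj (G := S)).range ≤ D)
    (h1 : ∃ γ ∈ D, ∀ α ∈ D, ∃ (k : ℤ) (s : S), α = MulAut.conj s * γ ^ k)
    (h2 : ∃ γ : MulAut S, ∀ α : MulAut S, ∃ k : ℤ, ∃ d ∈ D, α = d * γ ^ k)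
    (hcop : Nat.Coprime ((MulAut.conj (G := S)).range.relIndex D) D.index) : SylCyc S := by
  intro ℓ hℓ P _ hP
  have : Fact ℓ.Prime := ⟨hℓ⟩
  refine exists_gen_of_isCyclic_map ?_
  by_cases hdvd : ℓ ∣ D.index
  · -- `P ∩ D ≤ Inn`
    have hnd : ¬ ℓ ∣ (MulAut.conj (G := S)).range.relIndex D := fun h =>
      hℓ.one_lt.ne' (Nat.dvd_one.1 (hcop ▸ Nat.dvd_gcd h hdvd))
    have hcyc := isCyclic_quot h2
    have hPD : P ⊓ D ≤ Cfsg.Inn S := by
      intro x hx
      obtain ⟨k, hk⟩ := hP ⟨x, hx.1⟩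
      exact mem_of_pow_mem (Nat.Coprime.pow_left k ((Nat.Prime.coprime_iff_not_dvd hℓ).2 hnd))
        (congrArg Subtype.val hk : x ^ ℓ ^ k = 1) (Subgroup.pow_relIndex_mem (H := Cfsg.Inn S) (K := D) (g := x) hx.2)
    -- hence the image of `P` in `Out S` embeds in `Aut S / D`
    refine isCyclic_of_injective ((QuotientGroup.map (Cfsg.Inn S) D (MonoidHom.id _) hI).comp
      (P.map (QuotientGroup.mk' (Cfsg.Inn S))).subtype) ?_
    rw [injective_iff_map_eq_one]
    rintro ⟨_, α, hα, rfl⟩ h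
    apply Subtype.ext
    have h3 : α ∈ D := (QuotientGroup.eq_one_iff α).1 h
    exact (QuotientGroup.eq_one_iff α).2 (hPD ⟨hα, h3⟩)
  · -- `P ≤ D`
    have hPD : P ≤ D := by
      intro x hx
      obtain ⟨k, hk⟩ := hP ⟨x, hx⟩
      exact mem_of_pow_mem (Nat.Coprime.pow_left k ((Nat.Prime.coprime_iff_not_dvd hℓ).2 hdvd))
        (congrArg Subtype.val hk : x ^ ℓ ^ k = 1) (Subgroup.pow_index_mem D x)
    have hcyc : IsCyclic (D.map (QuotientGroup.mk' (Cfsg.Inn S))) := by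
      obtain ⟨γ, hγ, hall⟩ := h1
      refine ⟨⟨⟨QuotientGroup.mk' (Cfsg.Inn S) γ, γ, hγ, rfl⟩, ?_⟩⟩
      rintro ⟨_, α, hα, rfl⟩
      obtain ⟨k, s, rfl⟩ := hall α hα
      refine ⟨k, Subtype.ext ?_⟩
      have h1 : QuotientGroup.mk' (Cfsg.Inn S) (MulAut.conj s) = 1 := (QuotientGroup.eq_one_iff _).2 ⟨s, rfl⟩
      simp only [Subgroup.coe_zpow, map_mul, map_zpow, h1, one_mul]
    exact isCyclic_of_injective (Subgroup.inclusion (Subgroup.map_mono hPD)) (Subgroup.inclusion_injective _)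

end Base

end Cfsg.Agent.H576.Ext
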